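import Mathlib
import Groth.Agent.EssEtDesc5.Basic
import Groth.Agent.EssEtFrac5.Sub
import Groth.Agent.EssEtLib.LocalHom
import Groth.Agent.EtAlg7.EssEtale
import Groth.Agent.S2748
import Groth.Agent.S2136
import Groth.Agent.S9812
import Groth.Agent.S16438

/-!
# Normal intermediate rings of a strict henselization of a normal Noetherian local domain
-/

set_option linter.unusedSectionVars false
set_option linter.style.haveILetI false
set_option maxHeartbeats 800000

universe u

open IsLocalRing nonZeroDivisors

namespace Groth.Agent.EssEtNormal5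

/-- An `A`-algebra map between algebras over the fraction field is linear over it. -/
def extendFrac {A K L M : Type u} [CommRing A] [Field K] [Algebra A K] [IsFractionRing A K] [CommRing L] [CommRing M]
    [Algebra A L] [Algebra A M] [Algebra K L] [Algebra K M] [IsScalarTower A K L] [IsScalarTower A K M]
    (f : L →ₐ[A] M) : L →ₐ[K] M :=
  { f with
    commutes' := fun k => RingHom.congr_fun
      (IsLocalization.ringHom_ext A⁰ (j := f.toRingHom.comp (algebraMap K L)) (k := algebraMap K M)
        (RingHom.ext fun a => by
          simp [← IsScalarTower.algebraMap_apply])) k }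

/-- A local homomorphism, unramified and essentially of finite type, out of a normal local domain, injective, is flat. -/
theorem flat_of_normal {A C E : Type u} [CommRing A] [CommRing C] [IsLocalRing C] [IsDomain C]
    [IsIntegrallyClosed C] [CommRing E] [IsLocalRing E] [Algebra A C] [Algebra A E] [Algebra C E]
    [IsScalarTower A C E] [Algebra.EssFiniteType A E] [Algebra.FormallyUnramified A E]
    [IsLocalHom (algebraMap C E)] (hinj : Function.Injective (algebraMap C E)) : Module.Flat C E := by
  haveI : Algebra.FormallyUnramified C E := Algebra.FormallyUnramified.of_restrictScalars A C E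
  haveI : Algebra.EssFiniteType C E := Algebra.EssFiniteType.of_comp A C E
  let B := Algebra.EssFiniteType.subalgebra C E
  let q : Ideal B := (maximalIdeal E).comap (algebraMap B E)
  haveI : q.IsPrime := Ideal.comap_isPrime _ _
  haveI hloc : IsLocalization.AtPrime E q := by
    have hM : q.primeCompl = Algebra.EssFiniteType.submonoid C E := by
      ext x
      show algebraMap B E x ∉ maximalIdeal E ↔ IsUnit (algebraMap B E x)
      exact IsLocalRing.notMem_maximalIdeal
    show IsLocalization q.primeCompl E
    rw [hM]
    exact Algebra.EssFiniteType.isLocalization C E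
  let p := maximalIdeal C
  have hqp : q.under C = p := by
    show (((maximalIdeal E).comap (algebraMap B E)).comap (algebraMap C B)) = p
    rw [Ideal.comap_comap, ← IsScalarTower.algebraMap_eq]
    exact IsLocalRing.maximalIdeal_comap (algebraMap C E)
  haveI : q.LiesOver p := ⟨hqp.symm⟩
  let e : Localization.AtPrime q ≃ₐ[B] E := IsLocalization.algEquiv q.primeCompl _ _
  haveI : Algebra.IsUnramifiedAt C q := Algebra.FormallyUnramified.of_equiv (e.restrictScalars C).symm
  haveI : IsDomain (Localization.AtPrime p) := IsLocalization.isDomain_of_atPrime _ p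
  haveI : IsIntegrallyClosed (Localization.AtPrime p) :=
    isIntegrallyClosed_of_isLocalization _ p.primeCompl p.primeCompl_le_nonZeroDivisors
  have hlr : Function.Injective (Localization.localRingHom p q (algebraMap C B) (q.over_def p)) := by
    refine (injective_iff_map_eq_zero _).2 fun x hx => ?_
    obtain ⟨a, c, rfl⟩ := IsLocalization.exists_mk'_eq p.primeCompl x
    rw [Localization.localRingHom_mk'] at hx
    obtain ⟨m, hm⟩ := (IsLocalization.mk'_eq_zero_iff _ _).1 hx
    have h0 : algebraMap C E a = 0 := by
      have := congrArg (algebraMap B E) hm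
      rw [map_mul, map_zero, ← IsScalarTower.algebraMap_apply] at this
      exact (IsLocalization.map_units E m).mul_right_eq_zero.1 this
    rw [hinj (h0.trans (map_zero _).symm), IsLocalization.mk'_zero]
  obtain ⟨g, hg, hget⟩ := Groth.Agent.S2136.result q p (Groth.Agent.S9812.result _) hlr
  haveI := hget
  have hu : IsUnit (algebraMap B E g) := IsLocalization.map_units E (⟨g, hg⟩ : q.primeCompl)
  letI : Algebra (Localization.Away g) E := (IsLocalization.Away.lift g hu).toAlgebra
  haveI : IsScalarTower B (Localization.Away g) E :=
    .of_algebraMap_eq fun b => (IsLocalization.Away.lift_eq g hu b).symm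
  haveI : IsScalarTower C (Localization.Away g) E := .of_algebraMap_eq fun c => by
    rw [IsScalarTower.algebraMap_apply C B (Localization.Away g), ← IsScalarTower.algebraMap_apply B,
      ← IsScalarTower.algebraMap_apply]
  haveI : IsLocalization (q.primeCompl.map (algebraMap B (Localization.Away g))) E :=
    IsLocalization.isLocalization_of_submonoid_le (Localization.Away g) E (Submonoid.powers g) q.primeCompl
      (Submonoid.powers_le.2 hg)
  haveI : Module.Flat (Localization.Away g) E :=
    IsLocalization.flat E (q.primeCompl.map (algebraMap B (Localization.Away g)))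
  exact Module.Flat.trans C (Localization.Away g) E

section

variable {A S : Type u} [CommRing A] [IsLocalRing A] [IsDomain A] [IsIntegrallyClosed A] [IsNoetherianRing A]
  [CommRing S] [IsLocalRing S] [Algebra A S] [IsLocalHom (algebraMap A S)] [Hensel.IsStrictHenselization A S]

/-- Elements of an intermediate domain are separable over the fraction field. -/
theorem isSeparable_frac (D : Subalgebra A S) [IsDomain D] [Algebra (FractionRing A) (FractionRing D)]
    [IsScalarTower A (FractionRing A) (FractionRing D)] (d : D) :
    IsSeparable (FractionRing A) (algebraMap D (FractionRing D) d) := by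
  haveI hS : IsDomain S := ((Groth.Agent.S2748.result A S).2 ⟨inferInstance, inferInstance⟩).1
  haveI : Module.Flat A S := Groth.Agent.HenselConn.flat_strict A S
  haveI : Module.FaithfullyFlat A S := Module.FaithfullyFlat.of_flat_of_isLocalHom
  have hAS : Function.Injective (algebraMap A S) := FaithfulSMul.algebraMap_injective A S
  obtain ⟨E, hdE, _, hE, -⟩ := Groth.Agent.EssEtFrac5.exists_essEtale_containing (A := A) S {(d : S)}
  haveI := Groth.Agent.EtAlg7.formallyUnramified hE
  haveI := Groth.Agent.EtAlg7.essFiniteType hE
  haveI : IsDomain E := Subalgebra.isDomain E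
  haveI : FaithfulSMul A (FractionRing E) := (faithfulSMul_iff_algebraMap_injective A _).2 (by
    rw [IsScalarTower.algebraMap_eq A E (FractionRing E)]
    exact (IsFractionRing.injective E (FractionRing E)).comp fun x y h => hAS (congrArg Subtype.val h))
  haveI : FaithfulSMul A (FractionRing S) := (faithfulSMul_iff_algebraMap_injective A _).2 (by
    rw [IsScalarTower.algebraMap_eq A S (FractionRing S)]
    exact (IsFractionRing.injective S (FractionRing S)).comp hAS)
  letI := FractionRing.liftAlgebra A (FractionRing E)
  letI := FractionRing.liftAlgebra A (FractionRing S)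
  haveI : Algebra.FormallyUnramified E (FractionRing E) := Algebra.FormallyUnramified.of_isLocalization E⁰
  haveI : Algebra.EssFiniteType E (FractionRing E) := Algebra.EssFiniteType.of_isLocalization _ E⁰
  haveI : Algebra.FormallyUnramified A (FractionRing E) := Algebra.FormallyUnramified.comp A E _
  haveI : Algebra.EssFiniteType A (FractionRing E) := Algebra.EssFiniteType.comp A E _
  haveI : Algebra.FormallyUnramified (FractionRing A) (FractionRing E) :=
    Algebra.FormallyUnramified.of_restrictScalars A _ _
  haveI : Algebra.EssFiniteType (FractionRing A) (FractionRing E) := Algebra.EssFiniteType.of_comp A _ _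
  haveI : Algebra.IsSeparable (FractionRing A) (FractionRing E) := Algebra.FormallyUnramified.isSeparable _ _
  have hgE : Function.Injective ((IsScalarTower.toAlgHom A S (FractionRing S)).comp E.val) :=
    (IsFractionRing.injective S (FractionRing S)).comp Subtype.coe_injective
  have hgD : Function.Injective ((IsScalarTower.toAlgHom A S (FractionRing S)).comp D.val) :=
    (IsFractionRing.injective S (FractionRing S)).comp Subtype.coe_injective
  let gE : FractionRing E →ₐ[FractionRing A] FractionRing S := extendFrac (IsFractionRing.liftAlgHom hgE)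
  let gD : FractionRing D →ₐ[FractionRing A] FractionRing S := extendFrac (IsFractionRing.liftAlgHom hgD)
  have h := Algebra.IsSeparable.isSeparable (FractionRing A)
    (algebraMap E (FractionRing E) ⟨d, hdE _ (Finset.mem_singleton_self _)⟩)
  have h1 : gD (algebraMap D (FractionRing D) d) = gE (algebraMap E (FractionRing E) ⟨d, hdE _ (Finset.mem_singleton_self _)⟩) := by
    show IsFractionRing.liftAlgHom hgD _ = IsFractionRing.liftAlgHom hgE _
    simp [IsFractionRing.liftAlgHom_apply, IsFractionRing.lift_algebraMap]
  unfold IsSeparable at h ⊢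
  rw [← minpoly.algHom_eq gD gD.injective, h1, minpoly.algHom_eq gE gE.injective]
  exact h

set_option synthInstance.maxHeartbeats 80000 in
/-- The normal essentially étale subalgebra of `D` with given fraction field. -/
theorem exists_normal_sub (D : Subalgebra A S) [IsLocalRing D] [IsLocalHom (algebraMap D S)] [IsDomain D]
    [IsIntegrallyClosed D] [Algebra (FractionRing A) (FractionRing D)]
    [IsScalarTower A (FractionRing A) (FractionRing D)] (s : Finset D) :
    ∃ C : Subalgebra A D, IsLocalHom C.val.toRingHom ∧ Algebra.EssFiniteType A C ∧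
      (∀ c : C, ¬ IsUnit c → c ∈ (maximalIdeal A).map (algebraMap A C)) ∧
      ∀ d : D, algebraMap D (FractionRing D) d ∈
        IntermediateField.adjoin (FractionRing A) (algebraMap D (FractionRing D) '' (s : Set D)) → d ∈ C := by
  classical
  let L := IntermediateField.adjoin (FractionRing A) (algebraMap D (FractionRing D) '' (s : Set D))
  have hsep : ∀ x ∈ algebraMap D (FractionRing D) '' (s : Set D), IsSeparable (FractionRing A) x := by
    rintro _ ⟨d, -, rfl⟩
    exact isSeparable_frac D d
  haveI : FiniteDimensional (FractionRing A) L := by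
    haveI : Finite (algebraMap D (FractionRing D) '' (s : Set D)) := (s.finite_toSet.image _).to_subtype
    exact IntermediateField.finiteDimensional_adjoin fun x hx => (hsep x hx).isIntegral
  haveI : Algebra.IsSeparable (FractionRing A) L := (IntermediateField.isSeparable_adjoin_iff_isSeparable _ _).2 hsep
  let C₀ : Subalgebra A D := integralClosure A D ⊓
    (L.toSubalgebra.restrictScalars A).comap (IsScalarTower.toAlgHom A D (FractionRing D))
  letI : Algebra C₀ L :=
    (((algebraMap D (FractionRing D)).comp C₀.val.toRingHom).codRestrict L fun c => c.2.2).toAlgebra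
  haveI : IsScalarTower A C₀ L := .of_algebraMap_eq fun a => Subtype.ext
    (IsScalarTower.algebraMap_apply A D (FractionRing D) a)
  haveI : IsIntegralClosure C₀ A L := by
    refine ⟨fun x y h => Subtype.ext (IsFractionRing.injective D (FractionRing D) (congrArg Subtype.val h)), fun {x} => ⟨fun hx => ?_, ?_⟩⟩
    · have hx' : IsIntegral A (x : FractionRing D) :=
        (isIntegral_algHom_iff (L.val.restrictScalars A) Subtype.coe_injective).2 hx
      obtain ⟨d, hd⟩ := (isIntegrallyClosed_iff (FractionRing D)).1 ‹_› (hx'.tower_top (A := D))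
      have hd' : IsIntegral A d :=
        (isIntegral_algHom_iff (IsScalarTower.toAlgHom A D (FractionRing D)) (IsFractionRing.injective D _)).1
          (show IsIntegral A (algebraMap D (FractionRing D) d) by rw [hd]; exact hx')
      exact ⟨⟨d, hd', show algebraMap D (FractionRing D) d ∈ L by rw [hd]; exact x.2⟩, Subtype.ext hd⟩
    · rintro ⟨y, rfl⟩
      exact ((isIntegral_algHom_iff C₀.val Subtype.coe_injective).1 y.2.1).map (IsScalarTower.toAlgHom A C₀ L)
  haveI : Module.Finite A C₀ := IsIntegralClosure.finite A (FractionRing A) L C₀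
  haveI : IsFractionRing C₀ L :=
    IsIntegralClosure.isFractionRing_of_finite_extension A (FractionRing A) L C₀
  haveI : IsIntegrallyClosed C₀ := (isIntegrallyClosed_iff L).2 fun {x} hx =>
    (IsIntegralClosure.isIntegral_iff (A := C₀)).1 (isIntegral_trans (R := A) x hx)
  have hfg : C₀.FG := (Subalgebra.fg_iff_finiteType C₀).2 inferInstance
  let C := EssEtDesc5.fracSub C₀
  have hCloc : IsLocalHom C.val.toRingHom := EssEtDesc5.isLocalHom_fracSub C₀
  haveI := hCloc
  haveI : IsLocalRing C := RingHom.domain_isLocalRing C.val.toRingHom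
  haveI : IsDomain C := Subalgebra.isDomain C
  haveI : IsIntegrallyClosed C := by
    letI : Algebra C₀ C := (Subalgebra.inclusion (EssEtDesc5.le_fracSub C₀)).toRingHom.toAlgebra
    haveI := EssEtDesc5.isLocalization_fracSub C₀
    refine isIntegrallyClosed_of_isLocalization C ((IsUnit.submonoid D).comap C₀.val)
      fun b (hb : IsUnit (b : D)) => mem_nonZeroDivisors_of_ne_zero fun h0 => ?_
    rw [h0] at hb
    exact not_isUnit_zero (M₀ := D) hb
  obtain ⟨G, hG⟩ := hfg
  have key : ∀ d : D, ∃ (E : Subalgebra A S) (_ : IsLocalRing E) (j : C →ₐ[A] E), (∀ c : C, (j c : S) = (c : D)) ∧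
      (d : S) ∈ E ∧ (maximalIdeal A).map (algebraMap A E) = maximalIdeal E ∧ j.toRingHom.FaithfullyFlat := by
    intro d
    obtain ⟨E, hTE, _, hE, -⟩ := Groth.Agent.EssEtFrac5.exists_essEtale_containing (A := A) S
      (insert (d : S) (G.image fun g : D => (g : S)))
    haveI : IsLocalHom (algebraMap A E) := Groth.Agent.EssEtLib.isLocalHom_algebraMap hE
    haveI : IsLocalHom E.val.toRingHom := Groth.Agent.EtAlg7.isLocalHom_algHom hE E.val
    have h0 : ∀ a ∈ C₀, (a : S) ∈ E := by
      have : C₀ ≤ E.comap D.val := hG ▸ Algebra.adjoin_le fun g hg =>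
        hTE _ (Finset.mem_insert_of_mem (Finset.mem_image_of_mem _ hg))
      exact fun a ha => this ha
    have hC : ∀ c : C, ((c : D) : S) ∈ E := by
      intro c
      obtain ⟨a, ha, b, hb, hu, h⟩ := c.2
      obtain ⟨v, hv⟩ := isUnit_of_map_unit E.val.toRingHom (⟨b, h0 b hb⟩ : E) (hu.map D.val)
      have : ((c : D) : S) = (((v⁻¹ : Eˣ) : E) * ⟨a, h0 a ha⟩ : E) := by
        show _ = (((v⁻¹ : Eˣ) : E) : S) * (a : S)
        have hvb : (((v⁻¹ : Eˣ) : E) : S) * (b : S) = 1 := by
          have h1 : ((v⁻¹ : Eˣ) : E) * (⟨b, h0 b hb⟩ : E) = 1 := by rw [← hv]; exact Units.inv_mul v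
          exact congrArg (fun z : E => (z : S)) h1
        rw [← h, MulMemClass.coe_mul, ← mul_assoc, hvb, one_mul]
      rw [this]
      exact SetLike.coe_mem _
    let j : C →ₐ[A] E := (D.val.comp C.val).codRestrict E hC
    letI : Algebra C E := j.toRingHom.toAlgebra
    haveI : IsScalarTower A C E := .of_algebraMap_eq fun a => (j.commutes a).symm
    haveI := Groth.Agent.EtAlg7.formallyUnramified hE
    haveI := Groth.Agent.EtAlg7.essFiniteType hE
    haveI : IsLocalHom (algebraMap C E) := ⟨fun c hc =>
      isUnit_of_map_unit C.val.toRingHom c (isUnit_of_map_unit (algebraMap D S) _ (hc.map E.val))⟩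
    haveI : Module.Flat C E := flat_of_normal (A := A) fun x y h =>
      Subtype.ext (Subtype.ext (congrArg (fun z : E => (z : S)) h))
    exact ⟨E, inferInstance, j, fun c => rfl, hTE _ (Finset.mem_insert_self _ _),
      Groth.Agent.EtAlg7.map_maximalIdeal hE,
      (RingHom.faithfullyFlat_algebraMap_iff (R := C) (S := E)).2 Module.FaithfullyFlat.of_flat_of_isLocalHom⟩
  refine ⟨C, hCloc, EssEtDesc5.essFiniteType_fracSub C₀ ⟨G, hG⟩, fun c hc => ?_, fun d hd => ?_⟩
  · obtain ⟨E, _, j, -, -, hmE, hff⟩ := key 1
    letI : Algebra C E := j.toRingHom.toAlgebra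
    haveI : IsScalarTower A C E := .of_algebraMap_eq fun a => (j.commutes a).symm
    haveI : Module.FaithfullyFlat C E := (RingHom.faithfullyFlat_algebraMap_iff (R := C) (S := E)).1 hff
    have h1 : algebraMap C E c ∈ maximalIdeal E :=
      (IsLocalRing.mem_maximalIdeal _).2 fun h => hc (isUnit_of_map_unit (algebraMap C E) c h)
    rw [← hmE, IsScalarTower.algebraMap_eq A C E, ← Ideal.map_map] at h1
    rw [← Ideal.comap_map_eq_self_of_faithfullyFlat (B := E) ((maximalIdeal A).map (algebraMap A C))]
    exact h1
  · obtain ⟨E, _, j, hj, hdE, -, hff⟩ := key d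
    letI : Algebra C E := j.toRingHom.toAlgebra
    haveI : Module.FaithfullyFlat C E := (RingHom.faithfullyFlat_algebraMap_iff (R := C) (S := E)).1 hff
    obtain ⟨a, b, hb, hab⟩ := IsFractionRing.div_surjective C₀ (⟨_, hd⟩ : L)
    have hb0 : (b : D) ≠ 0 := fun h => nonZeroDivisors.ne_zero hb (Subtype.ext h)
    have hbd : (b : D) * d = a := by
      apply IsFractionRing.injective D (FractionRing D)
      have h' := congrArg (fun z : L => (z : FractionRing D)) hab
      have hbne : algebraMap D (FractionRing D) (b : D) ≠ 0 := fun h =>
        hb0 (IsFractionRing.to_map_eq_zero_iff.1 h)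
      change algebraMap D (FractionRing D) (a : D) / algebraMap D (FractionRing D) (b : D) =
        algebraMap D (FractionRing D) d at h'
      rw [map_mul, ← h', mul_div_cancel₀ _ hbne]
    let b' : C := ⟨b, EssEtDesc5.le_fracSub C₀ b.2⟩
    let a' : C := ⟨a, EssEtDesc5.le_fracSub C₀ a.2⟩
    have h1 : algebraMap C E a' ∈ (Ideal.span {b'}).map (algebraMap C E) := by
      rw [Ideal.map_span, Set.image_singleton]
      refine Ideal.mem_span_singleton'.2 ⟨⟨d, hdE⟩, Subtype.ext ?_⟩
      show (d : S) * (j b' : S) = (j a' : S)
      rw [hj, hj, mul_comm]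
      exact congrArg Subtype.val hbd
    have h2 : a' ∈ Ideal.span {b'} := by
      rw [← Ideal.comap_map_eq_self_of_faithfullyFlat (B := E) (Ideal.span {b'})]
      exact h1
    obtain ⟨c, hc⟩ := Ideal.mem_span_singleton'.1 h2
    have : (c : D) = d := mul_left_cancel₀ hb0 (by
      rw [hbd, mul_comm]
      exact congrArg Subtype.val hc)
    exact this ▸ c.2

/-- The image in `S` of such a subalgebra is essentially étale over `A`. -/
theorem exists_essEtale_le (D : Subalgebra A S) [IsLocalRing D] [IsLocalHom (algebraMap D S)] [IsDomain D]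
    [IsIntegrallyClosed D] [Algebra (FractionRing A) (FractionRing D)]
    [IsScalarTower A (FractionRing A) (FractionRing D)] (s : Finset D) :
    ∃ D' : Subalgebra A S, D' ≤ D ∧ (∃ _ : IsLocalRing D', IsLocalHom (algebraMap D' S) ∧
      EGA4loc.IsEssentiallyEtale A D') ∧
      ∀ d : D, algebraMap D (FractionRing D) d ∈
        IntermediateField.adjoin (FractionRing A) (algebraMap D (FractionRing D) '' (s : Set D)) → (d : S) ∈ D' := by
  obtain ⟨C, hCloc, hCft, hCm, hC⟩ := exists_normal_sub D s
  haveI := hCloc
  haveI := hCft
  let f : C →ₐ[A] S := D.val.comp C.val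
  have hf : Function.Injective f := Subtype.coe_injective.comp Subtype.coe_injective
  let e : C ≃ₐ[A] f.range := AlgEquiv.ofInjective f hf
  haveI : IsLocalRing C := RingHom.domain_isLocalRing C.val.toRingHom
  haveI : IsLocalRing f.range := e.toRingEquiv.isLocalRing
  haveI : IsLocalHom (algebraMap f.range S) := ⟨fun x hx => by
    obtain ⟨c, rfl⟩ := e.surjective x
    exact (isUnit_of_map_unit C.val.toRingHom c (isUnit_of_map_unit (algebraMap D S) _ hx)).map e⟩
  haveI : Algebra.EssFiniteType A f.range := Algebra.EssFiniteType.of_surjective e.toAlgHom e.surjective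
  have hm : (maximalIdeal A).map (algebraMap A f.range) = maximalIdeal f.range := by
    refine le_antisymm ?_ fun x hx => ?_
    · rw [Ideal.map_le_iff_le_comap]
      intro a ha
      refine (IsLocalRing.mem_maximalIdeal _).2 fun h => (IsLocalRing.mem_maximalIdeal _).1 ha ?_
      exact isUnit_of_map_unit (algebraMap A S) a (h.map f.range.val)
    · obtain ⟨c, rfl⟩ := e.surjective x
      have := Ideal.mem_map_of_mem e.toAlgHom.toRingHom
        (hCm c fun h => (IsLocalRing.mem_maximalIdeal _).1 hx (h.map e))
      rw [Ideal.map_map, AlgHom.toRingHom_eq_coe, AlgHom.comp_algebraMap] at this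
      exact this
  refine ⟨f.range, ?_, ⟨inferInstance, inferInstance, Groth.Agent.S16438.result A S f.range hm⟩,
    fun d hd => ⟨⟨d, hC d hd⟩, rfl⟩⟩
  rintro _ ⟨c, rfl⟩
  exact (c : D).2

end

end Groth.Agent.EssEtNormal5
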